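import Mathlib

namespace CfsgLib.ClassNumber

open Equiv Equiv.Perm

theorem min_of_parts {n : ℕ} (P : Nat.Partition (n + 1)) (h : 1 ∉ P.parts) :
    ∃ m ∈ P.parts, 2 ≤ m ∧ ∀ x ∈ P.parts, m ≤ x := by
  classical
  have hne : P.parts.toFinset.Nonempty := by
    rw [Multiset.toFinset_nonempty]
    intro e
    have := P.parts_sum
    rw [e] at this; simp at this
  refine ⟨P.parts.toFinset.min' hne, Multiset.mem_toFinset.mp (Finset.min'_mem _ _), ?_,
    fun x hx => Finset.min'_le _ _ (Multiset.mem_toFinset.mpr hx)⟩
  have hm := Multiset.mem_toFinset.mp (Finset.min'_mem P.parts.toFinset hne)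
  have := P.parts_pos hm
  have : P.parts.toFinset.min' hne ≠ 1 := fun e => h (by rw [e] at hm; exact hm)
  omega

theorem card_partition_succ_le (n : ℕ) :
    Fintype.card (Nat.Partition (n + 1)) ≤ 2 * Fintype.card (Nat.Partition n) := by
  classical
  let f : Nat.Partition (n + 1) → Nat.Partition n ⊕ Nat.Partition n := fun P =>
    if h : 1 ∈ P.parts then Sum.inl ⟨P.parts.erase 1, fun hi => P.parts_pos (Multiset.mem_of_mem_erase hi), by
        have h1 := congrArg Multiset.sum (Multiset.cons_erase h)
        rw [Multiset.sum_cons, P.parts_sum] at h1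
        omega⟩
    else Sum.inr ⟨(P.parts.erase (min_of_parts P h).choose) + {(min_of_parts P h).choose - 1}, by
        intro i hi
        rcases Multiset.mem_add.mp hi with hi | hi
        · exact P.parts_pos (Multiset.mem_of_mem_erase hi)
        · rw [Multiset.mem_singleton] at hi
          have := (min_of_parts P h).choose_spec.2.1
          omega, by
        have h1 := congrArg Multiset.sum (Multiset.cons_erase (min_of_parts P h).choose_spec.1)
        rw [Multiset.sum_cons, P.parts_sum] at h1
        rw [Multiset.sum_add, Multiset.sum_singleton]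
        have := (min_of_parts P h).choose_spec.2.1
        omega⟩
  have hf : Function.Injective f := by
    intro P Q e
    by_cases hP : 1 ∈ P.parts <;> by_cases hQ : 1 ∈ Q.parts <;> simp only [f, hP, hQ, dif_pos, dif_neg, not_false_iff,
      Sum.inl.injEq, Sum.inr.injEq, reduceCtorEq, Nat.Partition.mk.injEq] at e
    · apply Nat.Partition.ext
      rw [← Multiset.cons_erase hP, ← Multiset.cons_erase hQ, e]
    · obtain ⟨hm, hm2, hmin⟩ := (min_of_parts P hP).choose_spec
      obtain ⟨hm', hm2', hmin'⟩ := (min_of_parts Q hQ).choose_spec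
      generalize (min_of_parts P hP).choose = m at *
      generalize (min_of_parts Q hQ).choose = m' at *
      have key : m = m' := by
        have h1 : m - 1 ∈ Q.parts.erase m' + {m' - 1} := by rw [← e]; simp
        have h2 : m' - 1 ∈ P.parts.erase m + {m - 1} := by rw [e]; simp
        rcases Multiset.mem_add.mp h1 with a | a <;> rcases Multiset.mem_add.mp h2 with b | b
        · have := hmin' _ (Multiset.mem_of_mem_erase a)
          have := hmin _ (Multiset.mem_of_mem_erase b)
          omega
        all_goals simp only [Multiset.mem_singleton] at *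
        all_goals omega
      subst key
      apply Nat.Partition.ext
      rw [← Multiset.cons_erase hm, ← Multiset.cons_erase hm', add_right_cancel e]
  calc Fintype.card (Nat.Partition (n + 1)) ≤ Fintype.card (Nat.Partition n ⊕ Nat.Partition n) :=
        Fintype.card_le_of_injective f hf
    _ = _ := by rw [Fintype.card_sum, two_mul]

/-- All partitions of `k ≤ 5`. -/
def smallParts : ℕ → Finset (Multiset ℕ)
  | 0 => {0}
  | 1 => {{1}}
  | 2 => {{2}, {1, 1}}
  | 3 => {{3}, {2, 1}, {1, 1, 1}}
  | 4 => {{4}, {3, 1}, {2, 2}, {2, 1, 1}, {1, 1, 1, 1}}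
  | 5 => {{5}, {4, 1}, {3, 2}, {3, 1, 1}, {2, 2, 1}, {2, 1, 1, 1}, {1, 1, 1, 1, 1}}
  | _ => ∅

theorem mem_smallParts (s : Multiset ℕ) : (∀ i ∈ s, 0 < i) → s.sum ≤ 5 → s ∈ smallParts s.sum := by
  induction s using Multiset.induction_on with
  | empty => intro _ _; decide +kernel
  | cons a t ih =>
    intro hp hs
    rw [Multiset.sum_cons] at hs ⊢
    have ha := hp a (Multiset.mem_cons_self a t)
    have ht := ih (fun i hi => hp i (Multiset.mem_cons_of_mem hi)) (by omega)
    have key : ∀ a ∈ Finset.range 6, ∀ k ∈ Finset.range 6, 1 ≤ a → a + k ≤ 5 →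
        ∀ u ∈ smallParts k, a ::ₘ u ∈ smallParts (a + k) := by decide +kernel
    exact key a (Finset.mem_range.mpr (by omega)) t.sum (Finset.mem_range.mpr (by omega)) ha hs t ht

theorem card_partition_le (n : ℕ) (hn : 5 ≤ n) : Fintype.card (Nat.Partition n) ≤ 2 ^ (n - 2) := by
  induction n, hn using Nat.le_induction with
  | base =>
    refine (Finset.card_le_card_of_injOn (s := (Finset.univ : Finset (Nat.Partition 5))) (t := smallParts 5)
      (fun P => P.parts) ?_ ?_).trans (by decide +kernel)
    · intro P _
      have := mem_smallParts P.parts (fun i hi => P.parts_pos hi) (by rw [P.parts_sum])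
      rwa [P.parts_sum] at this
    · intro P _ Q _ e
      exact Nat.Partition.ext e
  | succ n hn ih =>
    have := card_partition_succ_le n
    rw [show n + 1 - 2 = (n - 2) + 1 by omega, pow_succ]
    omega

/-- The splitting partitions. -/
def Splits {n : ℕ} (P : Nat.Partition n) : Prop := P.parts.Nodup ∧ ∀ i ∈ P.parts, Odd i

theorem parts_parity {n : ℕ} (s : Multiset ℕ) (hs : s.sum = n) (h : ∀ i ∈ s, Odd i) :
    Even (n + Multiset.card s) := by
  subst hs
  induction s using Multiset.induction_on with
  | empty => simp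
  | cons a s ih =>
    obtain ⟨k, hk⟩ := ih fun i hi => h i (Multiset.mem_cons_of_mem hi)
    obtain ⟨j, hj⟩ := h a (Multiset.mem_cons_self a s)
    exact ⟨k + j + 1, by rw [Multiset.sum_cons, Multiset.card_cons]; omega⟩

theorem card_splits_lt (n : ℕ) (hn : 5 ≤ n) :
    Nat.card {P : Nat.Partition n // Splits P} < Nat.card {P : Nat.Partition n // ¬ Even (n + Multiset.card P.parts)} := by
  classical
  have hmax : ∀ P : {P : Nat.Partition n // Splits P}, ∃ k ∈ P.1.parts, 3 ≤ k := by
    rintro ⟨P, hnd, hodd⟩
    by_contra h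
    push Not at h
    have hall : ∀ i ∈ P.parts, i = 1 := fun i hi => by
      have := h i hi
      obtain ⟨j, hj⟩ := hodd i hi
      omega
    have e := Multiset.eq_replicate_card.mpr hall
    have := P.parts_sum
    rw [e] at this hnd
    simp at this
    have hc := Multiset.nodup_iff_count_le_one.mp hnd 1
    simp at hc
    omega
  have hexk : ∀ P : {P : Nat.Partition n // Splits P}, ∃ k ∈ P.1.parts, 3 ≤ k ∧ ∀ x ∈ P.1.parts, x ≤ k := by
    intro P
    obtain ⟨k, hk, hk3⟩ := hmax P
    have hne : P.1.parts.toFinset.Nonempty := ⟨k, Multiset.mem_toFinset.mpr hk⟩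
    refine ⟨P.1.parts.toFinset.max' hne, Multiset.mem_toFinset.mp (Finset.max'_mem _ _), ?_,
      fun x hx => Finset.le_max' _ _ (Multiset.mem_toFinset.mpr hx)⟩
    exact hk3.trans (Finset.le_max' _ _ (Multiset.mem_toFinset.mpr hk))
  choose k hk hk3 hkmax using hexk
  let f : {P : Nat.Partition n // Splits P} → {P : Nat.Partition n // ¬ Even (n + Multiset.card P.parts)} := fun P =>
    ⟨⟨P.1.parts.erase (k P) + {k P - 1, 1}, by
      intro i hi
      rcases Multiset.mem_add.mp hi with hi | hi
      · exact P.1.parts_pos (Multiset.mem_of_mem_erase hi)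
      · have := hk3 P
        simp at hi; omega, by
      have h1 := congrArg Multiset.sum (Multiset.cons_erase (hk P))
      rw [Multiset.sum_cons, P.1.parts_sum] at h1
      have := hk3 P
      rw [Multiset.sum_add]; simp; omega⟩, by
      show ¬ Even (n + Multiset.card (P.1.parts.erase (k P) + {k P - 1, 1}))
      have h1 := parts_parity P.1.parts P.1.parts_sum P.2.2
      have h2 := Multiset.card_pos_iff_exists_mem.mpr ⟨_, hk P⟩
      rw [Multiset.card_add, Multiset.card_erase_of_mem (hk P)]
      simp only [Nat.even_iff, Nat.pred_eq_sub_one, Multiset.insert_eq_cons, Multiset.card_cons, Multiset.card_singleton] at h1 ⊢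
      omega⟩
  have hfil : ∀ P : {P : Nat.Partition n // Splits P}, ((f P).1.parts.filter Even) = {k P - 1} := by
    intro P
    show (P.1.parts.erase (k P) + {k P - 1, 1}).filter Even = _
    rw [Multiset.filter_add, Multiset.filter_eq_nil.mpr fun x hx =>
      Nat.not_even_iff_odd.mpr (P.2.2 x (Multiset.mem_of_mem_erase hx))]
    have he : Even (k P - 1) := by
      obtain ⟨j, hj⟩ := P.2.2 _ (hk P)
      exact ⟨j, by omega⟩
    simp [Multiset.filter_cons, he, Multiset.filter_singleton, Nat.not_even_one]
  have hinj : Function.Injective f := by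
    intro P Q e
    have h1 : k P = k Q := by
      have := hfil P
      rw [e, hfil Q, Multiset.singleton_inj] at this
      have := hk3 P; have := hk3 Q; omega
    have h2 : P.1.parts.erase (k P) + {k P - 1, 1} = Q.1.parts.erase (k Q) + {k Q - 1, 1} :=
      congrArg (fun z => z.1.parts) e
    rw [h1] at h2
    apply Subtype.ext; apply Nat.Partition.ext
    rw [← Multiset.cons_erase (hk P), ← Multiset.cons_erase (hk Q), h1, add_right_cancel h2]
  have hnsurj : ¬ Function.Surjective f := by
    intro hs
    obtain ⟨P, hP⟩ := hs ⟨⟨2 ::ₘ Multiset.replicate (n - 2) 1, by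
      intro i hi; rcases Multiset.mem_cons.mp hi with h | h
      · omega
      · rw [Multiset.eq_of_mem_replicate h]; norm_num, by simp; omega⟩, by
      show ¬ Even (n + Multiset.card (2 ::ₘ Multiset.replicate (n - 2) 1))
      simp only [Nat.even_iff, Multiset.card_cons, Multiset.card_replicate]
      omega⟩
    have h1 := hfil P
    rw [hP] at h1
    have hf1 : (Multiset.replicate (n - 2) 1).filter Even = 0 := Multiset.filter_eq_nil.mpr fun x hx => by
      rw [Multiset.eq_of_mem_replicate hx]; decide
    simp [Multiset.filter_cons, hf1] at h1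
    have h2 : P.1.parts.erase (k P) + {k P - 1, 1} = 2 ::ₘ Multiset.replicate (n - 2) 1 :=
      congrArg (fun z => z.1.parts) hP
    have h3 : k P = 3 := by omega
    rw [h3] at h2
    have h4 := congrArg (Multiset.count 1) h2
    simp [Multiset.count_replicate] at h4
    have h5 := Multiset.nodup_iff_count_le_one.mp P.2.1 1
    omega
  rw [Nat.card_eq_fintype_card, Nat.card_eq_fintype_card]
  exact Fintype.card_lt_of_injective_not_surjective f hinj hnsurj

variable {α : Type*} [Fintype α] [DecidableEq α]

theorem sign_even_iff (σ : Perm α) :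
    Perm.sign σ = 1 ↔ Even (Fintype.card α + Multiset.card σ.partition.parts) := by
  rw [sign_of_cycleType, parts_partition, Multiset.card_add, Multiset.card_replicate, sum_cycleType]
  have hle : σ.support.card ≤ Fintype.card α := Finset.card_le_univ _
  have h2 : ∀ m : ℕ, ((-1 : ℤˣ) ^ m = 1) ↔ Even m := fun m => by
    rcases Nat.even_or_odd m with h | h
    · simp [h.neg_one_pow, h]
    · rw [h.neg_one_pow]; simp [Nat.not_even_iff_odd.mpr h]
  rw [h2]
  simp only [Nat.even_iff]
  omega

theorem splits_of_centralizer (σ : Perm α) (h : Subgroup.centralizer {σ} ≤ alternatingGroup α) :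
    Splits σ.partition := by
  obtain ⟨h1, h2, h3⟩ := centralizer_le_alternating_iff.mp h
  rw [sum_cycleType] at h2
  constructor
  · rw [Multiset.nodup_iff_count_le_one]
    intro a
    rw [parts_partition, Multiset.count_add, Multiset.count_replicate]
    by_cases ha : 1 = a
    · subst ha
      rw [if_pos rfl, Multiset.count_eq_zero_of_notMem fun hm => by
        have := two_le_of_mem_cycleType hm; omega]
      omega
    · rw [if_neg ha]; simpa using h3 a
  · intro i hi
    rw [parts_partition] at hi
    rcases Multiset.mem_add.mp hi with hi | hi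
    · exact h1 i hi
    · rw [Multiset.eq_of_mem_replicate hi]; exact odd_one

theorem card_classes_alternating_le :
    Nat.card (ConjClasses (alternatingGroup α)) ≤
      Nat.card {P : Nat.Partition (Fintype.card α) // Even (Fintype.card α + Multiset.card P.parts)} +
      Nat.card {P : Nat.Partition (Fintype.card α) // Splits P} := by
  classical
  let ψ : ConjClasses (alternatingGroup α) → Nat.Partition (Fintype.card α) := fun c =>
    ((c.out : alternatingGroup α) : Perm α).partition
  have hout : ∀ c : ConjClasses (alternatingGroup α), ConjClasses.mk c.out = c := fun c => Quotient.out_eq c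
  have hpair : ∀ c d : ConjClasses (alternatingGroup α), ψ c = ψ d → c ≠ d →
      ∃ g : Perm α, g * (c.out : Perm α) * g⁻¹ = (d.out : Perm α) ∧ Perm.sign g ≠ 1 := by
    intro c d e hne
    obtain ⟨g, hg⟩ := isConj_iff.mp (partition_eq_of_isConj.mpr e)
    refine ⟨g, hg, fun hs => hne ?_⟩
    rw [← hout c, ← hout d]
    exact ConjClasses.mk_eq_mk_iff_isConj.mpr (isConj_iff.mpr ⟨⟨g, mem_alternatingGroup.mpr hs⟩, Subtype.ext hg⟩)
  have htwo : ∀ a b c : ConjClasses (alternatingGroup α), ψ a = ψ b → ψ a = ψ c → a ≠ b → a ≠ c → b = c := by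
    intro a b c eb ec hb hc
    by_contra hbc
    obtain ⟨g, hg, hgs⟩ := hpair a b eb hb
    obtain ⟨h, hh, hhs⟩ := hpair a c ec hc
    apply hbc
    rw [← hout b, ← hout c]
    refine ConjClasses.mk_eq_mk_iff_isConj.mpr (isConj_iff.mpr ⟨⟨h * g⁻¹, mem_alternatingGroup.mpr ?_⟩, Subtype.ext ?_⟩)
    · rw [map_mul, map_inv, (Int.units_eq_one_or _).resolve_left hgs, (Int.units_eq_one_or _).resolve_left hhs]
      decide
    · show h * g⁻¹ * (b.out : Perm α) * (h * g⁻¹)⁻¹ = (c.out : Perm α)
      rw [← hg, ← hh]; group
  have hsplit : ∀ c d : ConjClasses (alternatingGroup α), ψ c = ψ d → c ≠ d → Splits (ψ c) := by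
    intro c d e hne
    obtain ⟨g, hg, hgs⟩ := hpair c d e hne
    apply splits_of_centralizer
    intro x hx
    rw [Subgroup.mem_centralizer_singleton_iff] at hx
    by_contra hxs
    rw [mem_alternatingGroup] at hxs
    apply hne
    rw [← hout c, ← hout d]
    refine ConjClasses.mk_eq_mk_iff_isConj.mpr (isConj_iff.mpr ⟨⟨g * x, mem_alternatingGroup.mpr ?_⟩, Subtype.ext ?_⟩)
    · rw [map_mul, (Int.units_eq_one_or _).resolve_left hgs, (Int.units_eq_one_or _).resolve_left hxs]
      decide
    · show g * x * (c.out : Perm α) * (g * x)⁻¹ = (d.out : Perm α)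
      rw [← hg, mul_assoc g x, hx]; group
  let rep : ConjClasses (alternatingGroup α) → ConjClasses (alternatingGroup α) := fun c =>
    @Function.invFun _ _ ⟨c⟩ ψ (ψ c)
  have hrep : ∀ c, ψ (rep c) = ψ c := fun c => @Function.invFun_eq _ _ ⟨c⟩ ψ (ψ c) ⟨c, rfl⟩
  have heven : ∀ c, Even (Fintype.card α + Multiset.card (ψ c).parts) := fun c =>
    (sign_even_iff _).mp (mem_alternatingGroup.mp c.out.2)
  let F : ConjClasses (alternatingGroup α) →
      {P : Nat.Partition (Fintype.card α) // Even (Fintype.card α + Multiset.card P.parts)} ⊕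
      {P : Nat.Partition (Fintype.card α) // Splits P} := fun c =>
    if h : c = rep c then Sum.inl ⟨ψ c, heven c⟩
    else Sum.inr ⟨ψ c, hsplit c (rep c) (hrep c).symm h⟩
  have hF : Function.Injective F := by
    intro c d e
    by_cases hc : c = rep c <;> by_cases hd : d = rep d
    · simp only [F, dif_pos hc, dif_pos hd] at e
      have e' : ψ c = ψ d := congrArg Subtype.val (Sum.inl.inj e)
      rw [hc, hd]; simp only [rep, e']
    · simp only [F, dif_pos hc, dif_neg hd, reduceCtorEq] at e
    · simp only [F, dif_neg hc, dif_pos hd, reduceCtorEq] at e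
    · simp only [F, dif_neg hc, dif_neg hd] at e
      have e' : ψ c = ψ d := congrArg Subtype.val (Sum.inr.inj e)
      have hreq : rep c = rep d := by simp only [rep, e']
      exact htwo (rep c) c d (hrep c) ((hrep c).trans e') (Ne.symm hc) (hreq ▸ Ne.symm hd)
  have := Nat.card_le_card_of_injective F hF
  rwa [Nat.card_sum] at this

theorem card_classes_perm :
    Nat.card (ConjClasses (Perm α)) = Fintype.card (Nat.Partition (Fintype.card α)) := by
  classical
  rw [← Nat.card_eq_fintype_card]
  refine Nat.card_congr (Equiv.ofBijective (fun c => (Quotient.out c : Perm α).partition) ⟨?_, ?_⟩)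
  · intro c d e
    have hc : ConjClasses.mk (Quotient.out c) = c := Quotient.out_eq c
    have hd : ConjClasses.mk (Quotient.out d) = d := Quotient.out_eq d
    rw [← hc, ← hd]
    exact ConjClasses.mk_eq_mk_iff_isConj.mpr (partition_eq_of_isConj.mpr e)
  · intro P
    have hm : (P.parts.filter (2 ≤ ·)).sum ≤ Fintype.card α := by
      conv_rhs => rw [← P.parts_sum, ← Multiset.filter_add_not (2 ≤ ·) P.parts, Multiset.sum_add]
      exact Nat.le_add_right _ _
    obtain ⟨g, hg⟩ := (exists_with_cycleType_iff α).mpr ⟨hm, fun i hi => (Multiset.mem_filter.mp hi).2⟩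
    refine ⟨ConjClasses.mk g, ?_⟩
    have hgo : IsConj (Quotient.out (ConjClasses.mk g) : Perm α) g :=
      ConjClasses.mk_eq_mk_iff_isConj.mp (Quotient.out_eq (ConjClasses.mk g))
    show (Quotient.out (ConjClasses.mk g) : Perm α).partition = P
    rw [partition_eq_of_isConj.mp hgo]
    apply Nat.Partition.ext
    rw [parts_partition, hg]
    have h1 : ∀ i ∈ P.parts.filter (fun i => ¬ 2 ≤ i), i = 1 := fun i hi => by
      have h := Multiset.mem_filter.mp hi
      have := P.parts_pos h.1
      omega
    have h2 := Multiset.eq_replicate_card.mpr h1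
    generalize hA : P.parts.filter (2 ≤ ·) = A at hg
    generalize hB : P.parts.filter (fun i => ¬ 2 ≤ i) = B at h2
    have hsum : A.sum + B.sum = Fintype.card α := by
      rw [← hA, ← hB, ← Multiset.sum_add, Multiset.filter_add_not, P.parts_sum]
    have hBs : B.sum = Multiset.card B := by
      conv_lhs => rw [h2]
      simp
    conv_rhs => rw [← Multiset.filter_add_not (2 ≤ ·) P.parts, hA, hB, h2]
    congr 2
    rw [← sum_cycleType, hg]
    omega

theorem alternating_lt_perm (n : ℕ) (hn : 5 ≤ n) :
    Nat.card (ConjClasses (alternatingGroup (Fin n))) < Nat.card (ConjClasses (Perm (Fin n))) ∧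
      Nat.card (ConjClasses (Perm (Fin n))) ≤ 2 ^ (n - 2) := by
  classical
  have hA := card_classes_alternating_le (α := Fin n)
  have hS := card_classes_perm (α := Fin n)
  rw [Fintype.card_fin] at hA hS
  refine ⟨?_, hS ▸ card_partition_le n hn⟩
  have hlt := card_splits_lt n hn
  have hsum : Nat.card {P : Nat.Partition n // Even (n + Multiset.card P.parts)} +
      Nat.card {P : Nat.Partition n // ¬ Even (n + Multiset.card P.parts)} = Fintype.card (Nat.Partition n) := by
    rw [← Nat.card_sum, Nat.card_congr (Equiv.sumCompl _), Nat.card_eq_fintype_card]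
  omega

end CfsgLib.ClassNumber
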